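import Cfsg.Agent.H17.Rep.LyRD

set_option autoImplicit false
set_option Elab.async false
set_option maxRecDepth 100000
set_option exponentiation.threshold 400000

namespace Cfsg.Agent.H17.LyR

open Cfsg Cfsg.Agent.H58 Cfsg.Agent.H17

def p0 : List (List ℕ × List ℕ) := [([2, 1], []),
  ([1, 2], []),
  ([4, 3], []),
  ([3, 4], []),
  ([6, 5], []),
  ([5, 6], []),
  ([8, 7], []),
  ([7, 8], []),
  ([10, 9], []),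
  ([9, 10], []),
  ([12, 11], []),
  ([11, 12], []),
  ([14, 13], []),
  ([13, 14], []),
  ([1, 1, 1, 1], [2, 2, 2, 2]),
  ([3, 3, 3], [4, 4]),
  ([1, 3, 1, 3], [4, 2, 4, 2]),
  ([2, 2, 4], [4, 2, 2]),
  ([2, 4, 1, 3, 2, 4], [4, 2, 3, 1, 4, 2]),
  ([11, 2, 6, 1, 6], [6, 2, 6, 1]),
  ([5, 5, 5], [6, 6]),
  ([11, 11, 11], [12, 12]),
  ([6, 12], [12, 6]),
  ([2, 6, 1, 12], [12, 2, 6, 1]),
  ([4, 6, 3, 12], [12, 4, 6, 3]),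
  ([3, 6, 4, 12], [12, 3, 6, 4]),
  ([6, 4, 6, 3, 5], [12, 12, 4, 6, 3]),
  ([6, 3, 6, 4, 5], [11, 11, 3, 6, 4]),
  ([2, 6, 1, 4, 6, 3, 2], [12, 4, 6, 3, 2, 6])]
theorem p0_0 : meqAt E 37 mats p0 0 = true := by decide +kernel
theorem p0_1 : meqAt E 37 mats p0 1 = true := by decide +kernel
theorem p0_2 : meqAt E 37 mats p0 2 = true := by decide +kernel
theorem p0_eq : ∀ q ∈ p0, (q.1.map (lmat E mats)).prod = (q.2.map (lmat E mats)).prod :=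
  meq_sound matsOK (m := 37) (J := 3) (by decide) basis (blocks_cons (blocks_cons (blocks_cons (blocks_nil _) p0_0) p0_1) p0_2)

def p1 : List (List ℕ × List ℕ) := [([2, 6, 1, 3, 6, 4], [3, 6, 4, 2, 6, 1]),
  ([4, 6, 3, 3, 6, 4, 4], [12, 3, 6, 4, 4, 6]),
  ([2, 2, 5, 1], [6, 6, 2]),
  ([2, 4, 5, 3, 1, 3, 6], [4, 6, 6, 3, 5, 3]),
  ([2, 3, 5, 4, 1, 3, 6, 4, 6, 3], [5, 2, 6, 1, 4, 6, 3, 3, 5]),
  ([2, 11, 1], [11, 11]),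
  ([4, 2, 5, 1, 3, 3, 5, 4, 5], [2, 5, 1, 4, 5, 3, 3, 6, 4]),
  ([4, 4, 5, 3, 5, 5], [5, 5, 3, 5, 4, 4]),
  ([4, 11], [11, 4]),
  ([13, 8, 6, 8, 3, 2, 4, 6, 8], [4, 4, 2, 6, 1, 5, 2, 5, 1]),
  ([13], [14]),
  ([14, 5, 13, 5], [5, 3, 3]),
  ([14, 4, 5, 3, 13, 1, 3], [3, 3, 5, 1, 6, 3, 6])]
theorem p1_0 : meqAt E 37 mats p1 0 = true := by decide +kernel
theorem p1_1 : meqAt E 37 mats p1 1 = true := by decide +kernel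
theorem p1_2 : meqAt E 37 mats p1 2 = true := by decide +kernel
theorem p1_eq : ∀ q ∈ p1, (q.1.map (lmat E mats)).prod = (q.2.map (lmat E mats)).prod :=
  meq_sound matsOK (m := 37) (J := 3) (by decide) basis (blocks_cons (blocks_cons (blocks_cons (blocks_nil _) p1_0) p1_1) p1_2)

def p2 : List (List ℕ × List ℕ) := [([14, 3, 5, 4, 13, 3], [3, 6, 3, 3, 5]),
  ([14, 11, 13, 3, 5, 4], [5, 4, 6, 3, 5]),
  ([13, 1, 1, 13, 3, 5, 4, 12], [1, 3, 3, 1, 4, 1, 5]),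
  ([14, 3, 13, 3, 5, 5], [5, 4, 6, 3, 3]),
  ([13, 1, 3, 3, 1, 4, 1, 13], [1, 1, 5, 11, 3, 6, 4]),
  ([13, 2, 5, 1, 13, 2, 6, 1, 13, 2, 5], [2, 2, 2, 4, 6, 3, 2, 3, 5, 4, 2]),
  ([7, 14, 4, 2, 5, 14, 2, 14, 2, 11], [1, 3, 3, 2, 4, 6, 3, 6, 4]),
  ([7, 7, 2], [1, 1, 1]),
  ([4, 8], [8, 4]),
  ([8, 1, 7], [1, 1, 1]),
  ([7, 11, 7, 11, 7], [12, 8, 12, 8, 12]),
  ([7, 11, 7, 12], [1, 1, 12, 8])]
theorem p2_0 : meqAt E 37 mats p2 0 = true := by decide +kernel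
theorem p2_1 : meqAt E 37 mats p2 1 = true := by decide +kernel
theorem p2_2 : meqAt E 37 mats p2 2 = true := by decide +kernel
theorem p2_eq : ∀ q ∈ p2, (q.1.map (lmat E mats)).prod = (q.2.map (lmat E mats)).prod :=
  meq_sound matsOK (m := 37) (J := 3) (by decide) basis (blocks_cons (blocks_cons (blocks_cons (blocks_nil _) p2_0) p2_1) p2_2)

def p3 : List (List ℕ × List ℕ) := [([10, 5, 9, 2, 4, 5, 2], [2, 4, 2, 3, 6, 4]),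
  ([10, 2, 5, 1, 9, 4, 6], [4, 4, 1, 5, 2, 3]),
  ([10, 4, 5, 3, 9, 2], [2, 4, 2, 5, 1, 3]),
  ([10, 3, 5, 4, 9, 4], [4, 2, 3, 5, 4, 1]),
  ([10, 11, 9, 5, 3, 3, 6], [3, 3, 2, 4, 5, 3, 1]),
  ([10, 1, 9], [2, 2, 2]),
  ([10, 3, 1, 4, 9], [3, 2, 4, 2, 2]),
  ([10, 3, 3, 1, 4, 4, 9], [1, 3, 3, 1, 4, 4, 2]),
  ([9, 9], [1, 1]),
  ([4, 4, 1, 3, 3, 9, 4, 4, 1, 3], [2, 2, 10, 4, 4, 2, 3, 3, 10, 4])]
theorem p3_0 : meqAt E 37 mats p3 0 = true := by decide +kernel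
theorem p3_1 : meqAt E 37 mats p3 1 = true := by decide +kernel
theorem p3_2 : meqAt E 37 mats p3 2 = true := by decide +kernel
theorem p3_eq : ∀ q ∈ p3, (q.1.map (lmat E mats)).prod = (q.2.map (lmat E mats)).prod :=
  meq_sound matsOK (m := 37) (J := 3) (by decide) basis (blocks_cons (blocks_cons (blocks_cons (blocks_nil _) p3_0) p3_1) p3_2)

def p4 : List (List ℕ × List ℕ) := [([9, 2, 7, 4, 6, 2, 3, 6, 8, 3, 6, 4, 2, 6, 1, 4, 1, 3, 1, 4, 9, 2, 6, 8, 1], [7, 5, 4, 1, 5, 1, 7, 5, 10, 3, 3, 1, 3, 5, 3, 3, 6, 2, 5, 1, 7, 5, 2, 3, 5]),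
  ([10, 8, 10, 2, 6, 8, 3, 2, 4, 6, 8, 3, 2, 4, 6, 4, 1, 4, 4, 1, 4, 9, 7], [6, 4, 6, 8, 3, 3, 6, 8, 3, 6, 4, 6, 2, 5, 4, 4, 1, 4, 4, 1, 4, 2, 10])]
theorem p4_0 : meqAt E 37 mats p4 0 = true := by decide +kernel
theorem p4_1 : meqAt E 37 mats p4 1 = true := by decide +kernel
theorem p4_2 : meqAt E 37 mats p4 2 = true := by decide +kernel
theorem p4_eq : ∀ q ∈ p4, (q.1.map (lmat E mats)).prod = (q.2.map (lmat E mats)).prod :=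
  meq_sound matsOK (m := 37) (J := 3) (by decide) basis (blocks_cons (blocks_cons (blocks_cons (blocks_nil _) p4_0) p4_1) p4_2)

def p5 : List (List ℕ × List ℕ) := [([9, 3, 1, 4, 2, 4, 4, 2, 4, 5, 3, 3, 5, 3, 7, 5, 4, 4, 7, 5, 3, 5, 9, 1, 4, 4, 2, 5, 3, 6, 3, 2, 6, 6, 7, 5, 1, 5, 2, 5, 4, 8], [1, 4, 1, 3, 3, 1, 6, 1, 3, 2, 7, 5, 1, 6, 4, 6, 2, 7, 9, 3, 1, 4, 2, 4, 4, 2, 4, 5, 3, 3, 5, 3, 7, 5, 4, 4, 7, 5, 3, 5, 9]),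
  ([9, 3, 7, 9, 3, 3, 2, 4, 2, 3, 3, 6, 1, 5, 2, 6, 7, 6, 3, 3, 2, 5], [4, 1, 3, 1, 3, 6, 2, 6, 1, 6, 7, 5, 4, 6, 1, 5, 9, 3, 7, 9, 4])]
theorem p5_0 : meqAt E 37 mats p5 0 = true := by decide +kernel
theorem p5_1 : meqAt E 37 mats p5 1 = true := by decide +kernel
theorem p5_2 : meqAt E 37 mats p5 2 = true := by decide +kernel
theorem p5_eq : ∀ q ∈ p5, (q.1.map (lmat E mats)).prod = (q.2.map (lmat E mats)).prod :=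
  meq_sound matsOK (m := 37) (J := 3) (by decide) basis (blocks_cons (blocks_cons (blocks_cons (blocks_nil _) p5_0) p5_1) p5_2)


end Cfsg.Agent.H17.LyR
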