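import Cfsg.Agent.H17.Rep.LyRD0

set_option autoImplicit false
set_option Elab.async false
set_option maxRecDepth 100000
set_option exponentiation.threshold 400000

namespace Cfsg.Agent.H17.LyR

open Cfsg Cfsg.Agent.H58 Cfsg.Agent.H17

noncomputable def mats : List (List ℕ) := [[], r1, r2, r3, r4, r5, r6, r7, r8, r9, r10, r11, r12, r13, r14]

theorem matsL : ∀ r ∈ mats, rowsOK E r = true :=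
  (forall_cons rfl (forall_cons ok1 (forall_cons ok2 (forall_cons ok3 (forall_cons ok4 (forall_cons ok5 (forall_cons ok6 (forall_cons ok7 (forall_cons ok8 (forall_cons ok9 (forall_cons ok10 (forall_cons ok11 (forall_cons ok12 (forall_cons ok13 (forall_cons ok14 (forall_nil' _))))))))))))))))

theorem matsOK : MatsOK E mats := matsOK_of (by decide) matsL

theorem b0 : basisAt E 37 0 = true := by decide +kernel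
theorem b1 : basisAt E 37 1 = true := by decide +kernel
theorem b2 : basisAt E 37 2 = true := by decide +kernel
theorem basis : ∀ j < 3, basisAt E 37 j = true := (blocks_cons (blocks_cons (blocks_cons (blocks_nil _) b0) b1) b2)

def iv : ℕ := 255740652881964560462909568

def rels : List (List ℕ) := [[1, 1, 1, 1, 1, 1, 1, 1],
  [3, 3, 3, 3, 3],
  [1, 3, 1, 3, 1, 3, 1, 3],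
  [2, 2, 4, 1, 1, 3],
  [2, 4, 1, 3, 2, 4, 1, 3, 2, 4, 1, 3],
  [11, 2, 6, 1, 6, 2, 5, 1, 5],
  [5, 5, 5, 5, 5],
  [11, 11, 11, 11, 11],
  [6, 12, 5, 11],
  [2, 6, 1, 12, 2, 5, 1, 11],
  [4, 6, 3, 12, 4, 5, 3, 11],
  [3, 6, 4, 12, 3, 5, 4, 11],
  [6, 4, 6, 3, 5, 4, 5, 3, 11, 11],
  [6, 3, 6, 4, 5, 3, 5, 4, 12, 12],
  [2, 6, 1, 4, 6, 3, 2, 5, 1, 4, 5, 3, 11],
  [2, 6, 1, 3, 6, 4, 2, 5, 1, 3, 5, 4],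
  [4, 6, 3, 3, 6, 4, 4, 5, 3, 3, 5, 4, 11],
  [2, 2, 5, 1, 1, 5, 5],
  [2, 4, 5, 3, 1, 3, 6, 4, 6, 4, 5, 5, 3],
  [2, 3, 5, 4, 1, 3, 6, 4, 6, 3, 6, 4, 4, 5, 3, 2, 5, 1, 6],
  [2, 11, 1, 12, 12],
  [4, 2, 5, 1, 3, 3, 5, 4, 5, 3, 5, 4, 4, 6, 3, 2, 6, 1],
  [4, 4, 5, 3, 5, 5, 3, 3, 6, 4, 6, 6],
  [4, 11, 3, 12],
  [13, 8, 6, 8, 3, 2, 4, 6, 8, 2, 6, 1, 6, 2, 5, 1, 3, 3],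
  [13, 13],
  [14, 5, 13, 5, 4, 4, 6],
  [14, 4, 5, 3, 13, 1, 3, 5, 4, 5, 2, 6, 4, 4],
  [14, 3, 5, 4, 13, 3, 6, 4, 4, 5, 4],
  [14, 11, 13, 3, 5, 4, 6, 4, 5, 3, 6],
  [13, 1, 1, 13, 3, 5, 4, 12, 6, 2, 3, 2, 4, 4, 2],
  [14, 3, 13, 3, 5, 5, 4, 4, 5, 3, 6],
  [13, 1, 3, 3, 1, 4, 1, 13, 3, 5, 4, 12, 6, 2, 2],
  [13, 2, 5, 1, 13, 2, 6, 1, 13, 2, 5, 1, 3, 6, 4, 1, 4, 5, 3, 1, 1, 1],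
  [7, 14, 4, 2, 5, 14, 2, 14, 2, 11, 3, 5, 4, 5, 3, 1, 4, 4, 2],
  [7, 7, 2, 2, 2, 2],
  [4, 8, 3, 7],
  [8, 1, 7, 2, 2, 2],
  [7, 11, 7, 11, 7, 11, 7, 11, 7, 11],
  [7, 11, 7, 12, 7, 11, 2, 2],
  [10, 5, 9, 2, 4, 5, 2, 3, 5, 4, 1, 3, 1],
  [10, 2, 5, 1, 9, 4, 6, 4, 1, 6, 2, 3, 3],
  [10, 4, 5, 3, 9, 2, 4, 2, 6, 1, 3, 1],
  [10, 3, 5, 4, 9, 4, 2, 3, 6, 4, 1, 3],
  [10, 11, 9, 5, 3, 3, 6, 2, 4, 6, 3, 1, 4, 4],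
  [10, 1, 9, 1, 1, 1],
  [10, 3, 1, 4, 9, 1, 1, 3, 1, 4],
  [10, 3, 3, 1, 4, 4, 9, 1, 3, 3, 2, 4, 4, 2],
  [9, 9, 2, 2],
  [4, 4, 1, 3, 3, 9, 4, 4, 1, 3, 3, 9, 4, 4, 1, 3, 3, 9, 1, 1],
  [9, 2, 7, 4, 6, 2, 3, 6, 8, 3, 6, 4, 2, 6, 1, 4, 1, 3, 1, 4, 9, 2, 6, 8, 1, 6, 4, 1, 6, 8, 2, 6, 1, 5, 4, 4, 6, 4, 2, 4, 4, 9, 6, 8, 2, 6, 2, 3, 6, 8],
  [10, 8, 10, 2, 6, 8, 3, 2, 4, 6, 8, 3, 2, 4, 6, 4, 1, 4, 4, 1, 4, 9, 7, 9, 1, 3, 2, 3, 3, 2, 3, 3, 6, 1, 5, 3, 5, 4, 7, 5, 4, 4, 7, 5, 3, 5],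
  [9, 3, 1, 4, 2, 4, 4, 2, 4, 5, 3, 3, 5, 3, 7, 5, 4, 4, 7, 5, 3, 5, 9, 1, 4, 4, 2, 5, 3, 6, 3, 2, 6, 6, 7, 5, 1, 5, 2, 5, 4, 8, 10, 6, 4, 6, 8, 3, 3, 6, 8, 4, 6, 4, 4, 6, 3, 1, 3, 3, 1, 3, 2, 4, 10, 8, 1, 5, 3, 5, 2, 6, 8, 1, 4, 2, 5, 2, 4, 4, 2, 3, 2],
  [9, 3, 7, 9, 3, 3, 2, 4, 2, 3, 3, 6, 1, 5, 2, 6, 7, 6, 3, 3, 2, 5, 3, 10, 8, 4, 10, 6, 2, 5, 3, 6, 8, 5, 2, 5, 1, 5, 4, 2, 4, 2, 3]]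

end Cfsg.Agent.H17.LyR
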