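import Cfsg.Agent.H17.Rep.ThRC0
import Cfsg.Agent.H17.Rep.ThRC1
import Cfsg.Agent.H17.Rep.ThRC2

set_option autoImplicit false
set_option Elab.async false
set_option maxRecDepth 100000
set_option exponentiation.threshold 400000

namespace Cfsg.Agent.H17.ThR

open Cfsg Cfsg.Agent.H58 Cfsg.Agent.H17

theorem rule : UnitsOK E mats ∧ RuleOK (elM E mats) rels iv :=
  ruleOK_of_meqs matsOK (pairs := p0 ++ (p1 ++ (p2 ++ (p3 ++ (p4 ++ (p5)))))) rfl (List.forall_mem_append.2 ⟨p0_eq, List.forall_mem_append.2 ⟨p1_eq, List.forall_mem_append.2 ⟨p2_eq, List.forall_mem_append.2 ⟨p3_eq, List.forall_mem_append.2 ⟨p4_eq, p5_eq⟩⟩⟩⟩⟩) (by decide +kernel)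

end Cfsg.Agent.H17.ThR
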